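import Groth.Agent.H26MM.Filtration
import Mathlib.RingTheory.Bialgebra.Basic

/-! Surjectivity: a connected cocommutative bialgebra in characteristic zero is generated by its primitives. -/

set_option autoImplicit false
set_option synthInstance.maxHeartbeats 200000

universe u v

open TensorProduct WithConv
open Groth.Agent.H20Comod

namespace Groth.Agent.H26MM

noncomputable section

variable {k : Type u} [Field k] {H : Type v} [Ring H] [Bialgebra k H] [Coalgebra.IsCocomm k H]

/-- An element of the first step killed by the counit is primitive. -/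
theorem primitive_of_mem_F_one {x : H} (hx : x ∈ F k H 1) (he : ε k H x = 0) : x ∈ SGA3y.primLie k H := by
  show CoalgebraStruct.comul (R := k) x = x ⊗ₜ[k] (1 : H) + (1 : H) ⊗ₜ[k] x
  refine eq_of_forall_sliceL fun g => ?_
  obtain ⟨f, hf, hg⟩ := exists_decomp g
  have h0 := exists_of_mem_F_zero (sliceL_mem_F hx hf)
  have hfx : ε k H (sliceL f.ofConv (CoalgebraStruct.comul (R := k) x)) = f.ofConv x := by
    rw [show ε k H = (1 : Q k H).ofConv from rfl, ← mul_apply', mul_one]
  rw [hfx] at h0
  have hadd : ∀ z : H ⊗[k] H, sliceL g z = sliceL f.ofConv z + g 1 • sliceL (ε k H) z := by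
    intro z
    induction z using TensorProduct.induction_on with
    | zero => simp
    | tmul a b =>
      simp only [sliceL_tmul, smul_smul, ← add_smul]
      congr 1
      conv_lhs => rw [hg]
      simp
    | add a b ha hb => simp only [map_add, smul_add, ha, hb]; abel
  rw [hadd, h0, sliceL_ε, map_add, sliceL_tmul, sliceL_tmul]
  conv_rhs => rw [show g x = f.ofConv x by rw [hg]; simp [he]]

variable (k) in
/-- The square of the identity for convolution. -/
def psi : H →ₗ[k] H := LinearMap.mul' k H ∘ₗ CoalgebraStruct.comul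

theorem psi_one : (psi k) (1 : H) = 1 := by
  simp [psi, Bialgebra.comul_one, Algebra.TensorProduct.one_def]

theorem toConv_psi : toConv ((psi k (H := H))) = toConv (LinearMap.id : H →ₗ[k] H) * toConv LinearMap.id := by
  apply congrArg toConv
  show LinearMap.mul' k H ∘ₗ CoalgebraStruct.comul =
    LinearMap.mul' k H ∘ₗ TensorProduct.map LinearMap.id LinearMap.id ∘ₗ CoalgebraStruct.comul
  rw [TensorProduct.map_id, LinearMap.id_comp]

theorem counit_psi (x : H) : ε k H ((psi k) x) = ε k H x := by
  have h : ∀ z : H ⊗[k] H, ε k H (LinearMap.mul' k H z) = ε k H (sliceL (ε k H) z) := by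
    intro z
    induction z using TensorProduct.induction_on with
    | zero => simp
    | tmul a b => simp [Bialgebra.counit_mul]
    | add a b ha hb => simp [ha, hb]
  show ε k H (LinearMap.mul' k H (CoalgebraStruct.comul (R := k) x)) = _
  rw [h, sliceL_ε]

theorem comul_psi : CoalgebraStruct.comul ∘ₗ (psi k (H := H)) =
    TensorProduct.map (psi k) (psi k) ∘ₗ CoalgebraStruct.comul := by
  let i₁ : H →ₐ[k] H ⊗[k] H := Algebra.TensorProduct.includeLeft
  let i₂ : H →ₐ[k] H ⊗[k] H := Algebra.TensorProduct.includeRight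
  have key : ∀ a b : H →ₗ[k] H, toConv (i₁.toLinearMap ∘ₗ a) * toConv (i₂.toLinearMap ∘ₗ b) =
      toConv (TensorProduct.map a b ∘ₗ CoalgebraStruct.comul) := by
    intro a b
    apply congrArg toConv
    show LinearMap.mul' k _ ∘ₗ TensorProduct.map _ _ ∘ₗ CoalgebraStruct.comul = _
    rw [← LinearMap.comp_assoc]
    congr 1
    refine TensorProduct.ext' fun x y => ?_
    simp [i₁, i₂]
  have comm : ∀ a b : H →ₗ[k] H, toConv (i₂.toLinearMap ∘ₗ b) * toConv (i₁.toLinearMap ∘ₗ a) =
      toConv (i₁.toLinearMap ∘ₗ a) * toConv (i₂.toLinearMap ∘ₗ b) := by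
    intro a b
    rw [key]
    apply congrArg toConv
    refine LinearMap.ext fun x => ?_
    show LinearMap.mul' k _ (TensorProduct.map _ _ (CoalgebraStruct.comul (R := k) x)) = _
    rw [← Coalgebra.comm_comul k x, TensorProduct.map_comm, LinearMap.comp_apply, ← Coalgebra.comm_comul k x]
    generalize CoalgebraStruct.comul (R := k) x = z
    induction z using TensorProduct.induction_on with
    | zero => simp
    | tmul c d => simp [i₁, i₂]
    | add c d hc hd => simp only [map_add, hc, hd]
  have hΔ := key LinearMap.id LinearMap.id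
  rw [TensorProduct.map_id, LinearMap.id_comp, LinearMap.comp_id, LinearMap.comp_id] at hΔ
  have h1 : toConv (CoalgebraStruct.comul ∘ₗ (psi k (H := H))) =
      toConv (CoalgebraStruct.comul (R := k) (A := H)) * toConv (CoalgebraStruct.comul (R := k) (A := H)) := by
    have h := LinearMap.algHom_comp_convMul_distrib (Bialgebra.comulAlgHom k H)
      (toConv (LinearMap.id : H →ₗ[k] H)) (toConv LinearMap.id)
    rw [← toConv_psi] at h
    exact congrArg toConv h
  apply toConv_injective
  rw [h1, ← hΔ, ← key (psi k) (psi k)]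
  have hi : ∀ i : H →ₐ[k] H ⊗[k] H,
      toConv (i.toLinearMap ∘ₗ (psi k)) = toConv i.toLinearMap * toConv i.toLinearMap := fun i => by
    have h := LinearMap.algHom_comp_convMul_distrib i (toConv (LinearMap.id : H →ₗ[k] H)) (toConv LinearMap.id)
    rw [← toConv_psi] at h
    exact congrArg toConv h
  rw [hi, hi]
  have hc := comm LinearMap.id LinearMap.id
  rw [LinearMap.comp_id, LinearMap.comp_id] at hc
  calc _ = toConv i₁.toLinearMap * (toConv i₂.toLinearMap * toConv i₁.toLinearMap) * toConv i₂.toLinearMap := by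
        simp only [mul_assoc]
    _ = _ := by rw [hc]; simp only [mul_assoc]

theorem sliceL_comul_psi (f : Q k H) (x : H) :
    sliceL f.ofConv (CoalgebraStruct.comul (R := k) ((psi k) x)) =
      (psi k) (sliceL (f.ofConv ∘ₗ (psi k)) (CoalgebraStruct.comul (R := k) x)) := by
  rw [← LinearMap.comp_apply CoalgebraStruct.comul (psi k), comul_psi, LinearMap.comp_apply,
    ← LinearMap.lTensor_comp_rTensor, LinearMap.comp_apply, sliceL_lTensor, sliceL_rTensor]

/-- Composition with `psi`. -/
def T (f : Q k H) : Q k H := toConv (f.ofConv ∘ₗ (psi k))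

theorem T_apply (f : Q k H) (x : H) : (T f).ofConv x = f.ofConv ((psi k) x) := rfl

theorem T_mul (f g : Q k H) : T (f * g) = T f * T g := by
  apply ofConv_injective
  refine LinearMap.ext fun x => ?_
  rw [T_apply, mul_apply', sliceL_comul_psi, mul_apply']
  rfl

theorem T_mem_pow {n : ℕ} {f : Q k H} (hf : f ∈ I k H ^ n) : T f ∈ I k H ^ n := by
  induction n generalizing f with
  | zero => simp
  | succ n ih =>
    rw [pow_succ_eq] at hf ⊢
    refine Submodule.mul_induction_on hf (fun a ha b hb => ?_) (fun a b ha hb => ?_)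
    · rw [T_mul]
      exact Ideal.mul_mem_mul (by rw [mem_I, T_apply, psi_one]; exact ha) (ih hb)
    · exact Ideal.add_mem _ ha hb

theorem psi_primitive {p : H} (hp : p ∈ SGA3y.primLie k H) : (psi k) p = (2 : k) • p := by
  show LinearMap.mul' k H (CoalgebraStruct.comul (R := k) p) = _
  rw [show CoalgebraStruct.comul (R := k) p = _ from hp]
  simp [two_smul]

theorem psi_of_mem_F_one {x : H} (hx : x ∈ F k H 1) :
    (psi k) x = (2 : k) • x - ε k H x • 1 := by
  have hp : x - ε k H x • (1 : H) ∈ SGA3y.primLie k H := primitive_of_mem_F_one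
    (sub_mem hx (Submodule.smul_mem _ _ (one_mem_F 1))) (by simp [Bialgebra.counit_one])
  have h := psi_primitive hp
  rw [map_sub, map_smul, psi_one, smul_sub, sub_eq_iff_eq_add] at h
  rw [h, two_smul k (ε k H x • (1 : H))]
  abel

/-- On the graded pieces `psi` is multiplication by `2 ^ n`. -/
theorem apply_psi_eq : ∀ (n : ℕ) {p : Q k H}, p ∈ I k H ^ n → ∀ {x : H}, x ∈ F k H n →
    p.ofConv ((psi k) x) = (2 : k) ^ n * p.ofConv x
  | 0, p, _, x, hx => by
    rw [pow_zero, one_mul, exists_of_mem_F_zero hx, map_smul, psi_one]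
  | n + 1, p, hp, x, hx => by
    rw [pow_succ_eq] at hp
    refine Submodule.mul_induction_on hp (fun f hf q hq => ?_) (fun a b ha hb => ?_)
    · rw [← T_apply, T_mul, mul_apply', mul_apply', T_apply]
      have hTf : T f ∈ I k H := by rw [mem_I, T_apply, psi_one]; exact hf
      rw [apply_psi_eq n hq (sliceL_mem_F hx hTf), ← mul_apply', mul_comm (T f) q, mul_apply', T_apply]
      have hy : sliceL q.ofConv (CoalgebraStruct.comul (R := k) x) ∈ F k H 1 := fun r hr => by
        rw [← mul_apply']
        refine hx _ ?_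
        have hI : I k H ^ (n + 2) = I k H ^ n * I k H ^ 2 := pow_add (I k H) n 2
        rw [hI]
        exact Ideal.mul_mem_mul hq hr
      rw [psi_of_mem_F_one hy, map_sub, map_smul, map_smul, mem_I.1 hf, smul_zero, sub_zero, ← mul_apply',
        mul_comm q f, mul_apply', smul_eq_mul, pow_succ, mul_assoc]
    · simp only [ofConv_add, LinearMap.add_apply, ha, hb, mul_add]

theorem psi_sub_mem (n : ℕ) {x : H} (hx : x ∈ F k H (n + 1)) :
    (psi k) x - (2 : k) ^ (n + 1) • x ∈ F k H n := fun p hp => by
  rw [map_sub, map_smul, apply_psi_eq (n + 1) hp hx, smul_eq_mul, sub_self]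

theorem eq_top_of_subalgebra [CharZero k] (hconn : SGA3y.IsConnectedCoalg k H) (R : Subalgebra k H)
    (hR : ∀ p ∈ SGA3y.primLie k H, p ∈ R) (x : H) : x ∈ R := by
  obtain ⟨n, hn⟩ := exists_mem_F hconn x
  clear hconn
  induction n generalizing x with
  | zero => rw [exists_of_mem_F_zero hn]; exact R.smul_mem R.one_mem _
  | succ n ih =>
    rcases n with _ | n
    · have hp : x - ε k H x • (1 : H) ∈ R := hR _ (primitive_of_mem_F_one
        (sub_mem hn (Submodule.smul_mem _ _ (one_mem_F 1))) (by simp [Bialgebra.counit_one]))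
      simpa using R.add_mem hp (R.smul_mem R.one_mem (ε k H x))
    let P : H →ₗ[k] H := LinearMap.id - (ε k H).smulRight (1 : H)
    have hP : ∀ y, P y = y - ε k H y • 1 := fun y => rfl
    let z := TensorProduct.map P P (CoalgebraStruct.comul (R := k) x)
    have hmem : ∀ g : H →ₗ[k] k, sliceR g z ∈ F k H (n + 1) ∧ sliceL g z ∈ F k H (n + 1) := by
      intro g
      have hg : toConv (g ∘ₗ P) ∈ I k H := by
        simp [mem_I, hP, Bialgebra.counit_one]
      have hPF : ∀ y ∈ F k H (n + 1), P y ∈ F k H (n + 1) := fun y hy => by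
        rw [hP]; exact sub_mem hy (Submodule.smul_mem _ _ (one_mem_F _))
      constructor
      · simp only [z]
        rw [← LinearMap.rTensor_comp_lTensor, LinearMap.comp_apply, sliceR_rTensor, sliceR_lTensor]
        exact hPF _ (sliceR_mem_F hn hg)
      · simp only [z]
        rw [← LinearMap.lTensor_comp_rTensor, LinearMap.comp_apply, sliceL_lTensor, sliceL_rTensor]
        exact hPF _ (sliceL_mem_F hn hg)
    obtain ⟨π, hπ⟩ := (F k H (n + 1)).subtype.exists_leftInverse_of_injective (Submodule.ker_subtype _)
    have hfix : ∀ y ∈ F k H (n + 1), (F k H (n + 1)).subtype (π y) = y := fun y hy =>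
      congrArg _ (LinearMap.congr_fun hπ ⟨y, hy⟩)
    have hz : TensorProduct.map ((F k H (n + 1)).subtype ∘ₗ π) ((F k H (n + 1)).subtype ∘ₗ π) z = z := by
      have hl : ((F k H (n + 1)).subtype ∘ₗ π).lTensor H z = z := by
        refine eq_of_forall_sliceL fun g => ?_
        rw [sliceL_lTensor]; exact hfix _ (hmem g).2
      have hr : ((F k H (n + 1)).subtype ∘ₗ π).rTensor H z = z := by
        refine sub_eq_zero.1 (eq_zero_of_forall_sliceR fun g => ?_)
        rw [map_sub, sliceR_rTensor, sub_eq_zero]; exact hfix _ (hmem g).1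
      rw [← LinearMap.lTensor_comp_rTensor, LinearMap.comp_apply, hr, hl]
    have hm : ∀ w : H ⊗[k] H, LinearMap.mul' k H
        (TensorProduct.map ((F k H (n + 1)).subtype ∘ₗ π) ((F k H (n + 1)).subtype ∘ₗ π) w) ∈ R := by
      intro w
      induction w using TensorProduct.induction_on with
      | zero => simp
      | tmul a b =>
        rw [TensorProduct.map_tmul, LinearMap.mul'_apply]
        exact R.mul_mem (ih _ (π a).2) (ih _ (π b).2)
      | add a b ha hb => rw [map_add, map_add]; exact R.add_mem ha hb
    have h1 : LinearMap.mul' k H z ∈ R := hz ▸ hm z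
    have h2 : LinearMap.mul' k H z = (psi k) x - (2 : k) • x + ε k H x • (1 : H) := by
      have hP1 : toConv P = toConv (LinearMap.id : H →ₗ[k] H) - 1 := by
        apply ofConv_injective
        refine LinearMap.ext fun y => ?_
        show y - ε k H y • (1 : H) = y - algebraMap k H (ε k H y)
        rw [Algebra.algebraMap_eq_smul_one]
      have e : toConv P * toConv P = toConv (psi k) - (2 : k) • toConv (LinearMap.id : H →ₗ[k] H) + 1 := by
        rw [toConv_psi, hP1,
          sub_mul, mul_sub, mul_sub, mul_one, one_mul, mul_one, two_smul]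
        abel
      have e' := congrArg (fun m : WithConv (H →ₗ[k] H) => m.ofConv x) e
      simp only [ofConv_add, ofConv_sub, ofConv_smul, LinearMap.add_apply, LinearMap.sub_apply,
        LinearMap.smul_apply, LinearMap.id_apply] at e'
      refine e'.trans ?_
      congr 1
      exact (Algebra.algebraMap_eq_smul_one _).trans rfl
    have h3 := ih _ (psi_sub_mem (n + 1) hn)
    have h4 : ((2 : k) ^ (n + 2) - 2) • x ∈ R := by
      have h5 := R.add_mem (R.sub_mem h1 h3) (R.smul_mem R.one_mem (-ε k H x))
      rw [h2] at h5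
      convert h5 using 1
      rw [sub_smul, neg_smul]
      abel
    have hne : (2 : k) ^ (n + 2) - 2 ≠ 0 := by
      rw [sub_ne_zero]
      intro h
      have h' : ((2 ^ (n + 2) : ℕ) : k) = ((2 : ℕ) : k) := by simpa using h
      have h'' := Nat.cast_injective h'
      have : 2 ^ 2 ≤ 2 ^ (n + 2) := Nat.pow_le_pow_right (by norm_num) (by omega)
      omega
    have := R.smul_mem h4 (((2 : k) ^ (n + 2) - 2)⁻¹)
    rwa [smul_smul, inv_mul_cancel₀ hne, one_smul] at this

end

end Groth.Agent.H26MM
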