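import Groth.Agent.H20Comod.Slices
import Groth.Prelude.Def_SGA3y
import Mathlib.RingTheory.Coalgebra.Convolution
import Mathlib.RingTheory.Artinian.Ring
import Mathlib.LinearAlgebra.Dual.Lemmas

/-! The filtration of a cocommutative bialgebra by the powers of the ideal of forms vanishing at the unit. -/

set_option autoImplicit false

set_option synthInstance.maxHeartbeats 200000

universe u v

open TensorProduct WithConv
open Groth.Agent.H20Comod

namespace Groth.Agent.H26MM

noncomputable section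

theorem mem_map_pow {R S : Type*} [CommRing R] [CommRing S] (f : R →+* S) (J : Ideal R) (m : ℕ) (q : R)
    (hq : q ∈ J ^ m) : f q ∈ (J.map f) ^ m := by
  rw [← Ideal.map_pow]
  exact Ideal.mem_map_of_mem f hq

variable (k : Type u) [Field k] (H : Type v) [Ring H] [Bialgebra k H] [Coalgebra.IsCocomm k H]

/-- The commutative algebra of forms. -/
abbrev Q := WithConv (H →ₗ[k] k)

instance (priority := 10000) commRingQ : CommRing (Q k H) := LinearMap.convCommRing

theorem mul_apply' (f g : Q k H) (x : H) :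
    (f * g).ofConv x = g.ofConv (sliceL f.ofConv (CoalgebraStruct.comul (R := k) x)) := by
  show LinearMap.mul' k k (TensorProduct.map f.ofConv g.ofConv (CoalgebraStruct.comul (R := k) x)) = _
  generalize CoalgebraStruct.comul (R := k) x = z
  induction z using TensorProduct.induction_on with
  | zero => simp
  | tmul a b => simp
  | add a b ha hb => simp [ha, hb]

theorem mul_apply_sliceR (f g : Q k H) (x : H) :
    (f * g).ofConv x = f.ofConv (sliceR g.ofConv (CoalgebraStruct.comul (R := k) x)) := by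
  rw [mul_apply', apply_sliceR_eq_apply_sliceL]

/-- The counit. -/
abbrev ε : H →ₗ[k] k := CoalgebraStruct.counit

theorem one_apply' (x : H) : (1 : Q k H).ofConv x = ε k H x := rfl

theorem sliceL_ε (x : H) : sliceL (ε k H) (CoalgebraStruct.comul (R := k) x) = x := by
  show TensorProduct.lid k H ((ε k H).rTensor H (CoalgebraStruct.comul (R := k) x)) = x
  rw [Coalgebra.rTensor_counit_comul, TensorProduct.lid_tmul, one_smul]

/-- The forms vanishing at the unit. -/
def I : Ideal (Q k H) where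
  carrier := {f | f.ofConv 1 = 0}
  add_mem' ha hb := by simp only [Set.mem_setOf_eq, ofConv_add, LinearMap.add_apply] at *; rw [ha, hb, add_zero]
  zero_mem' := rfl
  smul_mem' g f hf := by
    simp only [Set.mem_setOf_eq, smul_eq_mul] at *
    rw [mul_apply_sliceR, Bialgebra.comul_one, Algebra.TensorProduct.one_def, sliceR_tmul, hf, zero_smul, map_zero]

variable {k H}

theorem mem_I {f : Q k H} : f ∈ I k H ↔ f.ofConv 1 = 0 := Iff.rfl

theorem mul_apply_one (f g : Q k H) : (f * g).ofConv 1 = f.ofConv 1 * g.ofConv 1 := by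
  rw [mul_apply_sliceR, Bialgebra.comul_one, Algebra.TensorProduct.one_def, sliceR_tmul, map_smul,
    smul_eq_mul, mul_comm]

/-- A form is a multiple of the counit plus one vanishing at the unit. -/
theorem exists_decomp (g : H →ₗ[k] k) :
    ∃ f ∈ I k H, g = f.ofConv + g 1 • ε k H :=
  ⟨toConv (g - g 1 • ε k H), by simp [mem_I, Bialgebra.counit_one], by simp⟩

theorem pow_succ_eq (n : ℕ) : I k H ^ (n + 1) = I k H * I k H ^ n := pow_succ' (I k H) n

theorem pow_succ_eq' (n : ℕ) : I k H ^ (n + 1) = I k H ^ n * I k H := pow_succ (I k H) n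

variable (k H)

/-- The filtration. -/
def F (n : ℕ) : Submodule k H where
  carrier := {x | ∀ p ∈ I k H ^ (n + 1), p.ofConv x = 0}
  add_mem' ha hb p hp := by rw [map_add, ha p hp, hb p hp, add_zero]
  zero_mem' p _ := map_zero _
  smul_mem' c x hx p hp := by rw [map_smul, hx p hp, smul_zero]

variable {k H}

theorem mem_F {n : ℕ} {x : H} : x ∈ F k H n ↔ ∀ p ∈ I k H ^ (n + 1), p.ofConv x = 0 := Iff.rfl

theorem F_mono : Monotone (F k H) := fun _ _ h _ hx p hp => hx p (Ideal.pow_le_pow_right (by omega) hp)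

theorem one_mem_F (n : ℕ) : (1 : H) ∈ F k H n := fun _ hp => Ideal.pow_le_self (Nat.succ_ne_zero n) hp

theorem exists_of_mem_F_zero {x : H} (hx : x ∈ F k H 0) : x = ε k H x • (1 : H) := by
  rw [← sub_eq_zero]
  refine (Module.forall_dual_apply_eq_zero_iff k _).1 fun g => ?_
  obtain ⟨f, hf, hg⟩ := exists_decomp g
  rw [hg]
  simp [hx f (by rwa [zero_add, Submodule.pow_one]), mem_I.1 hf, Bialgebra.counit_one]

theorem sliceL_mem_F {n : ℕ} {x : H} (hx : x ∈ F k H (n + 1)) {f : Q k H} (hf : f ∈ I k H) :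
    sliceL f.ofConv (CoalgebraStruct.comul (R := k) x) ∈ F k H n := fun p hp => by
  rw [← mul_apply']
  refine hx _ ?_
  rw [pow_succ_eq (n + 1)]
  exact Ideal.mul_mem_mul hf hp

theorem sliceR_mem_F {n : ℕ} {x : H} (hx : x ∈ F k H (n + 1)) {f : Q k H} (hf : f ∈ I k H) :
    sliceR f.ofConv (CoalgebraStruct.comul (R := k) x) ∈ F k H n := fun p hp => by
  rw [← mul_apply_sliceR]
  exact hx _ (by rw [pow_succ_eq' (n + 1)]; exact Ideal.mul_mem_mul hp hf)

theorem sliceL_mem_F_self {n : ℕ} {x : H} (hx : x ∈ F k H n) (f : Q k H) :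
    sliceL f.ofConv (CoalgebraStruct.comul (R := k) x) ∈ F k H n := fun p hp => by
  rw [← mul_apply']
  exact hx _ (Ideal.mul_mem_left _ _ hp)

theorem mem_F_succ {n : ℕ} {x : H}
    (h : ∀ f ∈ I k H, sliceL f.ofConv (CoalgebraStruct.comul (R := k) x) ∈ F k H n) : x ∈ F k H (n + 1) := by
  intro p hp
  rw [pow_succ_eq (n + 1)] at hp
  refine Submodule.mul_induction_on hp (fun f hf q hq => ?_) (fun a b ha hb => ?_)
  · rw [mul_apply']
    exact h f hf q hq
  · rw [ofConv_add, LinearMap.add_apply, ha, hb, add_zero]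

/-- Connected means exhausted by the filtration. -/
theorem exists_mem_F (hconn : SGA3y.IsConnectedCoalg k H) (x : H) : ∃ n, x ∈ F k H n := by
  classical
  obtain ⟨D, hD, hxD, hsub⟩ := exists_finite_subcoalg k (A := H) (Set.finite_singleton x)
  have hR : ∀ d ∈ D, ∀ g : H →ₗ[k] k, sliceR g (CoalgebraStruct.comul (R := k) d) ∈ D ∧
      sliceL g (CoalgebraStruct.comul (R := k) d) ∈ D := fun d hd g => by
    obtain ⟨z, hz⟩ := hsub d hd
    rw [← hz]
    clear hz
    induction z using TensorProduct.induction_on with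
    | zero => simp
    | tmul a b =>
      simp only [TensorProduct.map_tmul, sliceR_tmul, sliceL_tmul]
      exact ⟨D.smul_mem _ a.2, D.smul_mem _ b.2⟩
    | add a b ha hb => simp only [map_add]; exact ⟨add_mem ha.1 hb.1, add_mem ha.2 hb.2⟩
  let J : Ideal (Q k H) :=
    { carrier := {f | ∀ d ∈ D, f.ofConv d = 0}
      add_mem' := fun ha hb d hd => by rw [ofConv_add, LinearMap.add_apply, ha d hd, hb d hd, add_zero]
      zero_mem' := fun _ _ => rfl
      smul_mem' := fun g f hf d hd => by
        rw [smul_eq_mul, mul_apply']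
        exact hf _ (hR d hd _).2 }
  let res : Q k H →ₗ[k] Module.Dual k D :=
    { toFun := fun f => f.ofConv ∘ₗ D.subtype
      map_add' := fun _ _ => rfl
      map_smul' := fun _ _ => rfl }
  have hmax : ∀ 𝔪 : Ideal (Q k H), 𝔪.IsMaximal → J ≤ 𝔪 → 𝔪 = I k H := by
    intro 𝔪 h𝔪 hJ
    let W : Submodule k (Module.Dual k D) := (𝔪.restrictScalars k).map res
    have hW : res 1 ∉ W := by
      rintro ⟨f, hf, hfe⟩
      refine h𝔪.ne_top ((Ideal.eq_top_iff_one _).2 ?_)
      have h1 : 1 - f ∈ J := fun d hd => by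
        have := LinearMap.congr_fun hfe ⟨d, hd⟩
        show (1 : Q k H).ofConv d - f.ofConv d = 0
        rw [sub_eq_zero]
        exact this.symm
      simpa using 𝔪.add_mem (hJ h1) hf
    obtain ⟨φ, hφ1, hφ2⟩ := Submodule.exists_le_ker_of_notMem hW
    obtain ⟨d, hd⟩ := (Module.evalEquiv k D).surjective φ
    let E : Submodule k H :=
      { carrier := {e | e ∈ D ∧ ∀ f ∈ 𝔪, f.ofConv e = 0}
        add_mem' := fun ha hb => ⟨D.add_mem ha.1 hb.1, fun f hf => by rw [map_add, ha.2 f hf, hb.2 f hf, add_zero]⟩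
        zero_mem' := ⟨D.zero_mem, fun f _ => map_zero _⟩
        smul_mem' := fun c e he => ⟨D.smul_mem c he.1, fun f hf => by rw [map_smul, he.2 f hf, smul_zero]⟩ }
    have hdE : (d : H) ∈ E := ⟨d.2, fun f hf => by
      have := LinearMap.mem_ker.1 (hφ2 ⟨f, hf, rfl⟩)
      rwa [← hd, Module.evalEquiv_apply] at this⟩
    have hd0 : (d : H) ≠ 0 := fun h => hφ1 (by
      rw [← hd, Subtype.ext (a1 := d) (a2 := 0) h, map_zero]
      rfl)
    have h1E : (1 : H) ∈ E := by
      refine hconn E (fun e he => ?_) (fun h => hd0 ((Submodule.mem_bot k).1 (h ▸ hdE)))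
      obtain ⟨π, hπ⟩ := E.subtype.exists_leftInverse_of_injective (Submodule.ker_subtype E)
      have hfix : ∀ y ∈ E, E.subtype (π y) = y := fun y hy =>
        congrArg E.subtype (LinearMap.congr_fun hπ ⟨y, hy⟩)
      refine ⟨TensorProduct.map π π (CoalgebraStruct.comul (R := k) e), ?_⟩
      rw [← LinearMap.comp_apply, ← TensorProduct.map_comp]
      have hr : (E.subtype ∘ₗ π).rTensor H (CoalgebraStruct.comul (R := k) e) = CoalgebraStruct.comul (R := k) e := by
        refine sub_eq_zero.1 (eq_zero_of_forall_sliceR fun g => ?_)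
        rw [map_sub, sliceR_rTensor, sub_eq_zero]
        refine hfix _ ⟨(hR e he.1 g).1, fun f hf => ?_⟩
        rw [show g = (toConv g).ofConv from rfl, ← mul_apply_sliceR]
        exact he.2 _ (𝔪.mul_mem_right _ hf)
      have hl : (E.subtype ∘ₗ π).lTensor H (CoalgebraStruct.comul (R := k) e) = CoalgebraStruct.comul (R := k) e := by
        refine eq_of_forall_sliceL fun g => ?_
        rw [sliceL_lTensor]
        refine hfix _ ⟨(hR e he.1 g).2, fun f hf => ?_⟩
        rw [show g = (toConv g).ofConv from rfl, ← mul_apply']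
        exact he.2 _ (𝔪.mul_mem_left _ hf)
      rw [← LinearMap.lTensor_comp_rTensor, LinearMap.comp_apply, hr, hl]
    refine h𝔪.eq_of_le ?_ fun f hf => h1E.2 f hf
    rw [Ideal.ne_top_iff_one, mem_I, one_apply', Bialgebra.counit_one]
    exact one_ne_zero
  haveI : IsArtinianRing (Q k H ⧸ J) := by
    haveI : Module.Finite k (Q k H ⧸ J.restrictScalars k) := by
      refine Module.Finite.of_injective ((J.restrictScalars k).liftQ res fun f hf => LinearMap.ext fun d => hf d.1 d.2) ?_
      rw [injective_iff_map_eq_zero]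
      intro y hy
      obtain ⟨f, rfl⟩ := Submodule.mkQ_surjective _ y
      exact (Submodule.Quotient.mk_eq_zero _).2 fun d hd => LinearMap.congr_fun hy ⟨d, hd⟩
    haveI : Module.Finite k (Q k H ⧸ J) := Module.Finite.equiv (Submodule.Quotient.restrictScalarsEquiv k J)
    exact isArtinian_of_tower k inferInstance
  obtain ⟨N, hN⟩ := IsArtinianRing.isNilpotent_jacobson_bot (R := Q k H ⧸ J)
  have hI : (I k H).map (Ideal.Quotient.mk J) ≤ (⊥ : Ideal (Q k H ⧸ J)).jacobson := by
    refine le_sInf fun 𝔫 h𝔫 => ?_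
    obtain ⟨-, h𝔫⟩ := h𝔫
    haveI := h𝔫
    rw [Ideal.map_le_iff_le_comap, hmax _ (Ideal.comap_isMaximal_of_surjective _ Ideal.Quotient.mk_surjective)
      (fun f hf => by rw [Ideal.mem_comap, Ideal.Quotient.eq_zero_iff_mem.2 hf]; exact 𝔫.zero_mem)]
  refine ⟨N, fun p hp => ?_⟩
  have h1 : ∀ m, ∀ q ∈ I k H ^ m, Ideal.Quotient.mk J q ∈ ((I k H).map (Ideal.Quotient.mk J)) ^ m :=
    fun m q hq => mem_map_pow (Ideal.Quotient.mk J) (I k H) m q hq
  have h2 := (Ideal.pow_right_mono hI N) (h1 N p (Ideal.pow_le_pow_right (Nat.le_succ N) hp))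
  rw [hN] at h2
  exact Ideal.Quotient.eq_zero_iff_mem.1 h2 x (hxD rfl)

end

end Groth.Agent.H26MM
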