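import Groth.Agent.H26MM.Filtration
import Groth.Agent.H20PBW.Basic
import Mathlib.LinearAlgebra.Basis.VectorSpace

/-! Products of ordered primitive elements are linearly independent in characteristic zero. -/

set_option autoImplicit false
set_option synthInstance.maxHeartbeats 200000

universe u v w

open TensorProduct WithConv
open Groth.Agent.H20Comod

namespace Groth.Agent.H26MM

noncomputable section

variable {k : Type u} [Field k] {H : Type v} [Ring H] [Bialgebra k H] [Coalgebra.IsCocomm k H]

theorem counit_eq_zero_of_primitive {p : H} (hp : p ∈ SGA3y.primLie k H) : ε k H p = 0 := by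
  have h := sliceL_ε k H p
  rw [show CoalgebraStruct.comul (R := k) p = _ from hp, map_add, sliceL_tmul, sliceL_tmul, Bialgebra.counit_one,
    one_smul, add_eq_right] at h
  have h' := congrArg (ε k H) h
  rwa [map_smul, Bialgebra.counit_one, smul_eq_mul, mul_one, map_zero] at h'

/-- The slice of a product with a primitive element. -/
theorem sliceL_comul_mul {p : H} (hp : p ∈ SGA3y.primLie k H) (f : Q k H) (y : H) :
    ∃ f' ∈ I k H, sliceL f.ofConv (CoalgebraStruct.comul (R := k) (p * y)) =
      f.ofConv p • y + sliceL f'.ofConv (CoalgebraStruct.comul (R := k) y) +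
        p * sliceL f.ofConv (CoalgebraStruct.comul (R := k) y) := by
  obtain ⟨f', hf', hdec⟩ := exists_decomp (f.ofConv ∘ₗ LinearMap.mulLeft k p)
  refine ⟨f', hf', ?_⟩
  have h1 : (f.ofConv ∘ₗ LinearMap.mulLeft k p) (1 : H) = f.ofConv p := by simp
  rw [h1] at hdec
  have h2 : ∀ z : H ⊗[k] H, sliceL f.ofConv ((p ⊗ₜ[k] (1 : H) + (1 : H) ⊗ₜ[k] p) * z) =
      f.ofConv p • sliceL (ε k H) z + sliceL f'.ofConv z + p * sliceL f.ofConv z := by
    intro z
    induction z using TensorProduct.induction_on with
    | zero => simp
    | tmul a b =>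
      simp only [add_mul, Algebra.TensorProduct.tmul_mul_tmul, one_mul, map_add, sliceL_tmul, mul_smul_comm]
      congr 1
      rw [smul_smul, ← add_smul]
      congr 1
      have := LinearMap.congr_fun hdec a
      simp only [LinearMap.comp_apply, LinearMap.mulLeft_apply, LinearMap.add_apply, LinearMap.smul_apply,
        smul_eq_mul] at this
      rw [this, add_comm]
    | add a b ha hb => simp only [map_add, mul_add, smul_add, ha, hb]; abel
  rw [Bialgebra.comul_mul, show CoalgebraStruct.comul (R := k) p = _ from hp, h2, sliceL_ε]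

theorem mul_mem_F {p : H} (hp : p ∈ SGA3y.primLie k H) : ∀ {n : ℕ} {y : H}, y ∈ F k H n → p * y ∈ F k H (n + 1)
  | 0, y, hy => by
    refine mem_F_succ fun f hf => ?_
    rw [exists_of_mem_F_zero hy, mul_smul_comm, mul_one, map_smul, map_smul,
      show CoalgebraStruct.comul (R := k) p = _ from hp, map_add, sliceL_tmul, sliceL_tmul, mem_I.1 hf, zero_smul,
      add_zero]
    exact Submodule.smul_mem _ _ (Submodule.smul_mem _ _ (one_mem_F 0))
  | n + 1, y, hy => by
    refine mem_F_succ fun f hf => ?_
    obtain ⟨f', hf', e⟩ := sliceL_comul_mul hp f y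
    rw [e]
    exact add_mem (add_mem (Submodule.smul_mem _ _ hy) (F_mono (Nat.le_succ n) (sliceL_mem_F hy hf')))
      (mul_mem_F hp (sliceL_mem_F hy hf))

variable {ι : Type w} (v : ι → H) (hv : ∀ i, v i ∈ SGA3y.primLie k H)

include hv in
theorem prod_mem_F : ∀ l : List ι, (l.map v).prod ∈ F k H l.length
  | [] => by simpa using one_mem_F (k := k) (H := H) 0
  | i :: l => by simpa using mul_mem_F (hv i) (prod_mem_F l)

variable [DecidableEq ι] (co : ι → Q k H) (hI : ∀ i, co i ∈ I k H)
  (hco : ∀ i j, (co i).ofConv (v j) = if i = j then 1 else 0)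

/-- The product of the coordinate forms. -/
abbrev qs (s : Multiset ι) : Q k H := (s.map co).prod

include hI in
theorem qs_mem : ∀ s : Multiset ι, qs co s ∈ I k H ^ Multiset.card s := fun s => by
  induction s using Multiset.induction with
  | empty => simp
  | cons a t ih =>
    rw [qs, Multiset.map_cons, Multiset.prod_cons, Multiset.card_cons, pow_succ_eq]
    exact Ideal.mul_mem_mul (hI a) ih

include hv hI hco in
theorem qs_mul : ∀ (s : Multiset ι) {i : ι} {y : H}, y ∈ F k H (Multiset.card s - 1) →
    (qs co s).ofConv (v i * y) = (s.count i : k) * (qs co (s.erase i)).ofConv y := fun s => by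
  induction s using Multiset.induction with
  | empty =>
    intro i y _
    simp [qs, Bialgebra.counit_mul, counit_eq_zero_of_primitive (hv i)]
  | cons a t ih =>
    intro i y hy
    rw [Multiset.card_cons, Nat.add_sub_cancel] at hy
    have hz : sliceL (co a).ofConv (CoalgebraStruct.comul (R := k) y) ∈ F k H (Multiset.card t - 1) := by
      rcases hn : Multiset.card t with _ | n
      · rw [hn] at hy; exact sliceL_mem_F_self hy _
      · rw [hn] at hy; exact sliceL_mem_F hy (hI a)
    obtain ⟨f', hf', e⟩ := sliceL_comul_mul (hv i) (co a) y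
    have h0 : (qs co t).ofConv (sliceL f'.ofConv (CoalgebraStruct.comul (R := k) y)) = 0 := by
      rw [← mul_apply']
      refine hy _ ?_
      rw [pow_succ_eq]
      exact Ideal.mul_mem_mul hf' (qs_mem co hI t)
    rw [qs, Multiset.map_cons, Multiset.prod_cons, mul_apply', e, map_add, map_add, map_smul, hco, h0,
      add_zero, ih hz, ← mul_apply', smul_eq_mul]
    by_cases hai : a = i
    · subst hai
      rw [if_pos rfl, one_mul, Multiset.erase_cons_head, Multiset.count_cons_self, Nat.cast_add, Nat.cast_one,
        add_mul, one_mul, add_comm]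
      congr 1
      by_cases hat : a ∈ t
      · conv_rhs => rw [← Multiset.cons_erase hat]
        simp only [qs, Multiset.map_cons, Multiset.prod_cons, Multiset.count_cons_self, Multiset.count_erase_self,
          Nat.sub_add_cancel (Multiset.count_pos.2 hat)]
      · simp [Multiset.count_eq_zero.2 hat]
    · rw [if_neg hai, zero_mul, zero_add, Multiset.erase_cons_tail _ hai, Multiset.count_cons_of_ne (Ne.symm hai)]
      simp [qs]

include hv hI hco in
theorem qs_prod [CharZero k] : ∀ (l : List ι) (s : Multiset ι), Multiset.card s = l.length →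
    (s = ↑l → (qs co s).ofConv (l.map v).prod ≠ 0) ∧ (s ≠ ↑l → (qs co s).ofConv (l.map v).prod = 0)
  | [], s, hs => by
    have : s = 0 := Multiset.card_eq_zero.1 hs
    subst this
    refine ⟨fun _ => ?_, fun h => absurd rfl h⟩
    simp [qs, Bialgebra.counit_one]
  | i :: l, s, hs => by
    rw [List.map_cons, List.prod_cons, qs_mul v hv co hI hco s (by
      rw [hs, List.length_cons, Nat.add_sub_cancel]; exact prod_mem_F v hv l)]
    constructor
    · rintro rfl
      have h1 : (↑(i :: l) : Multiset ι).erase i = ↑l := by rw [← Multiset.cons_coe, Multiset.erase_cons_head]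
      rw [h1]
      refine mul_ne_zero ?_ ((qs_prod l ↑l rfl).1 rfl)
      exact Nat.cast_ne_zero.2 (Multiset.count_pos.2 (Multiset.mem_coe.2 List.mem_cons_self)).ne'
    · intro hne
      by_cases hi : i ∈ s
      · have hcard : Multiset.card (s.erase i) = l.length := by
          rw [Multiset.card_erase_of_mem hi, hs, List.length_cons, Nat.pred_succ]
        rw [(qs_prod l _ hcard).2 fun h => hne (by
          rw [← Multiset.cons_erase hi, h, Multiset.cons_coe]), mul_zero]
      · simp [Multiset.count_eq_zero.2 hi]

omit [DecidableEq ι] in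
include hv in
theorem linearIndependent_prod [CharZero k] [LinearOrder ι] (hli : LinearIndependent k v) :
    LinearIndependent k fun l : H20PBW.SL ι => (l.1.map v).prod := by
  classical
  let b := Module.Basis.span hli
  have hco' : ∀ i, ∃ c : Q k H, c ∈ I k H ∧ ∀ j, c.ofConv (v j) = if i = j then 1 else 0 := fun i => by
    obtain ⟨g, hg⟩ := (b.coord i).exists_extend
    refine ⟨toConv (g - g 1 • ε k H), by simp [mem_I, Bialgebra.counit_one], fun j => ?_⟩
    have hj : g (v j) = b.coord i (b j) := by
      rw [← hg]
      exact congrArg g (congrArg Subtype.val (Module.Basis.span_apply hli j)).symm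
    simp [hj, counit_eq_zero_of_primitive (hv j), Finsupp.single_apply, eq_comm]
  choose co hI hco using hco'
  rw [linearIndependent_iff]
  intro c hc
  by_contra hne
  obtain ⟨l₀, hl₀, hmax⟩ := Finset.exists_max_image c.support (fun l => l.1.length) (Finsupp.support_nonempty_iff.2 hne)
  have h := congrArg (qs co (↑l₀.1 : Multiset ι)).ofConv hc
  rw [Finsupp.linearCombination_apply, Finsupp.sum, map_sum, map_zero] at h
  rw [Finset.sum_eq_single l₀] at h
  · rw [map_smul, smul_eq_mul, mul_eq_zero] at h
    exact h.elim (Finsupp.mem_support_iff.1 hl₀) ((qs_prod v hv co hI hco l₀.1 _ rfl).1 rfl)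
  · intro l hl hne'
    rw [map_smul]
    rcases (hmax l hl).lt_or_eq with hlt | heq
    · refine smul_eq_zero_of_right _ (F_mono (show l.1.length ≤ l₀.1.length - 1 by omega) (prod_mem_F v hv l.1) _ ?_)
      rw [Nat.sub_add_cancel (by omega)]
      simpa using qs_mem co hI (↑l₀.1 : Multiset ι)
    · rw [(qs_prod v hv co hI hco l.1 _ (by simp [heq])).2 ?_, smul_zero]
      intro h'
      exact hne' (Subtype.ext ((Multiset.coe_eq_coe.1 h').eq_of_sortedLE l₀.2 l.2).symm)
  · exact fun h' => absurd hl₀ h'

end

end Groth.Agent.H26MM
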